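import Cfsg.Agent.ORD.BlkCls

set_option autoImplicit false

namespace CL.ND

open Cfsg

universe u

theorem count_fib {α β γ : Type*} [Finite α] [Finite β] [Finite γ] (P : α × β → Prop)
    (Q : α × γ → Prop) (h : ∀ a, Nat.card {b // P (a, b)} ≤ Nat.card {c // Q (a, c)}) :
    Nat.card {x // P x} ≤ Nat.card {x // Q x} := by
  have := Fintype.ofFinite α
  have e1 : Nat.card {x // P x} = Nat.card (Σ a, {b // P (a, b)}) :=
    Nat.card_congr (Equiv.subtypeProdEquivSigmaSubtype fun a b => P (a, b))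
  have e2 : Nat.card {x // Q x} = Nat.card (Σ a, {c // Q (a, c)}) :=
    Nat.card_congr (Equiv.subtypeProdEquivSigmaSubtype fun a b => Q (a, b))
  rw [e1, e2, Nat.card_sigma, Nat.card_sigma]
  exact Finset.sum_le_sum fun a _ => h a

theorem count_over {G : Type u} [Group G] [Finite G] (N : Subgroup G) [hN : N.Normal] [Fintype N]
    (θ : IrrCharacter N) :
    Nat.card (Blk.overSet N θ.1) ≤
      Nat.card (ConjClasses (Char.inertia N θ.1 ⧸ N.subgroupOf (Char.inertia N θ.1))) := by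
  have := Fintype.ofFinite G
  have hle : N ≤ Char.inertia N θ.1 := Char.le_inertia θ.2.isCharacter.isClassFunction
  have := Fintype.ofFinite (N.subgroupOf (Char.inertia N θ.1))
  refine le_trans ?_ (CL.Ord.PC.card_overSet_le (N.subgroupOf (Char.inertia N θ.1))
    (θ.2.subOf hle) (Char.inertia_subOf_eq_top hle le_rfl))
  choose ψ h1 h2 h3 using fun χ : Blk.overSet N θ.1 =>
    Char.clifford_ind_surj hle θ.2 le_rfl χ.1.2 χ.2
  refine Nat.card_le_card_of_injective (fun χ => ⟨⟨ψ χ, h1 χ⟩, ?_⟩) fun a b hab => ?_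
  · rw [Blk.mem_overSet, Char.classInner_res_subOf hle, h3]
    exact χ.2
  · have : ψ a = ψ b := congrArg (fun x => x.1.1) hab
    exact Subtype.ext (Subtype.ext (by rw [← h2 a, ← h2 b, this]))

/-- Clifford counting: `k(A) |E| ≤ #{(θ, e₁, e₂)}`. -/
theorem count {G : Type u} [Group G] [Finite G] (N : Subgroup G) [hN : N.Normal] [Fintype N]
    (T : Subgroup G) (hNT : N ≤ T) {E : Type u} [Group E] [Finite E] (π : T →* E)
    (hπ : Function.Surjective π) (hker : ∀ t : T, π t = 1 ↔ (t : G) ∈ N)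
    (b : Set (IrrCharacter N))
    (hb : ∀ θ ∈ b, ∀ t ∈ T, ∀ θ' : IrrCharacter N, θ'.1 = Char.conjN N t θ.1 → θ' ∈ b)
    (hI : ∀ θ ∈ b, Char.inertia N θ.1 ≤ T)
    (A : Set (IrrCharacter G)) (hA : ∀ χ ∈ A, ∃ θ ∈ b, χ ∈ Blk.overSet N θ.1) :
    Nat.card A * Nat.card E ≤
      Nat.card {x : IrrCharacter N × E × E // x.1 ∈ b ∧ x.2.1 * x.2.2 = x.2.2 * x.2.1 ∧
        ∀ t : T, π t = x.2.1 ∨ π t = x.2.2 → (t : G) ∈ Char.inertia N x.1.1} := by
  have hle : ∀ θ : IrrCharacter N, N ≤ Char.inertia N θ.1 := fun θ =>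
    Char.le_inertia θ.2.isCharacter.isClassFunction
  have key : ∀ (θ : IrrCharacter N) (s t : T), (s : G) ∈ Char.inertia N θ.1 → π t = π s →
      (t : G) ∈ Char.inertia N θ.1 := fun θ s t hs e => by
    have h1 : ((t * s⁻¹ : T) : G) ∈ N := (hker _).1 (by rw [map_mul, map_inv, e, mul_inv_cancel])
    simpa using mul_mem (hle θ h1) hs
  refine le_trans ?_ (count_fib (fun y : IrrCharacter N × IrrCharacter G × E => y.1 ∈ b ∧
    y.2.1 ∈ Blk.overSet N y.1.1 ∧ ∀ t : T, π t = y.2.2 → (t : G) ∈ Char.inertia N y.1.1) _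
    fun θ => ?_)
  · choose θ hθ hθ' using fun χ : A => hA χ.1 χ.2
    choose σ hσ using hπ
    let c : A → E → IrrCharacter N := fun χ e => ⟨Char.conjN N (σ e) (θ χ).1, (θ χ).2.conjN _⟩
    let r : A → IrrCharacter N → E := fun χ => Function.invFun (c χ)
    have hr : ∀ χ e, c χ (r χ (c χ e)) = c χ e := fun χ e => Function.invFun_eq ⟨e, rfl⟩
    rw [← Nat.card_prod]
    refine Nat.card_le_card_of_injective (fun x => ⟨(c x.1 x.2, x.1.1, (r x.1 (c x.1 x.2))⁻¹ * x.2),
      hb _ (hθ x.1) _ (σ x.2).2 _ rfl, ?_, fun t ht => ?_⟩) ?_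
    · exact (Char.classInner_res_conjN x.1.1.2.isCharacter.isClassFunction _ _).trans_ne (hθ' x.1)
    · refine key _ ((σ (r x.1 (c x.1 x.2)))⁻¹ * σ x.2) t ?_ (by rw [ht, map_mul, map_inv, hσ, hσ])
      have h1 : Char.conjN N (σ (r x.1 (c x.1 x.2))) (θ x.1).1 = (c x.1 x.2).1 :=
        congrArg Subtype.val (hr x.1 x.2)
      rw [Char.mem_inertia_iff, Subgroup.coe_mul, Subgroup.coe_inv, Char.conjN_mul]
      conv_lhs => rw [← h1, Char.conjN_inv_conjN]
    · rintro ⟨χ, e⟩ ⟨χ', e'⟩ h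
      simp only [Subtype.mk.injEq, Prod.mk.injEq] at h
      obtain rfl : χ = χ' := Subtype.ext h.2.1
      have h2 := h.2.2
      rw [h.1] at h2
      rw [mul_left_cancel h2]
  · by_cases hθ : θ ∈ b
    swap
    · have : IsEmpty {y : IrrCharacter G × E // θ ∈ b ∧ y.1 ∈ Blk.overSet N θ.1 ∧
          ∀ t : T, π t = y.2 → (t : G) ∈ Char.inertia N θ.1} := ⟨fun y => hθ y.2.1⟩
      exact (Nat.card_of_isEmpty).trans_le (Nat.zero_le _)
    let ρ : Char.inertia N θ.1 →* E := π.comp (Subgroup.inclusion (hI θ hθ))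
    have hρ : ∀ x, ρ x = 1 ↔ x ∈ N.subgroupOf (Char.inertia N θ.1) := fun x => hker _
    let ρ' := QuotientGroup.lift (N.subgroupOf (Char.inertia N θ.1)) ρ fun x hx => (hρ x).2 hx
    have hinj : Function.Injective ρ' := by
      rw [injective_iff_map_eq_one]
      intro q
      induction q using QuotientGroup.induction_on with
      | H x => exact fun h => (QuotientGroup.eq_one_iff x).2 ((hρ x).1 h)
    have hmem : ∀ q (t : T), π t = ρ' q → (t : G) ∈ Char.inertia N θ.1 := fun q t => by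
      induction q using QuotientGroup.induction_on with
      | H x => exact fun h => key θ ⟨x, hI θ hθ x.2⟩ t x.2 h
    have hsurj : ∀ e : E, (∀ t : T, π t = e → (t : G) ∈ Char.inertia N θ.1) → ∃ q, ρ' q = e :=
      fun e he => by
        obtain ⟨t, rfl⟩ := hπ e
        exact ⟨QuotientGroup.mk ⟨t, he t rfl⟩, rfl⟩
    choose s hs using hsurj
    calc _ ≤ Nat.card (Blk.overSet N θ.1 ×
            (Char.inertia N θ.1 ⧸ N.subgroupOf (Char.inertia N θ.1))) := by
          refine Nat.card_le_card_of_injective (fun y => (⟨y.1.1, y.2.2.1⟩, s y.1.2 y.2.2.2))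
            fun y z h => Subtype.ext (Prod.ext (congrArg (fun w => w.1.1) h) ?_)
          rw [← hs y.1.2 y.2.2.2, ← hs z.1.2 z.2.2.2]
          exact congrArg (fun w => ρ' w.2) h
      _ ≤ _ := by
          rw [Nat.card_prod]
          refine (Nat.mul_le_mul_right _ (count_over N θ)).trans ?_
          rw [← card_comm_eq_card_conjClasses_mul_card]
          refine Nat.card_le_card_of_injective (fun y => ⟨(ρ' y.1.1, ρ' y.1.2), hθ, ?_,
            fun t ht => ht.elim (hmem _ t) (hmem _ t)⟩) fun y z h => Subtype.ext (Prod.ext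
              (hinj (congrArg (fun w => w.1.1) h)) (hinj (congrArg (fun w => w.1.2) h)))
          exact (y.2.map ρ').eq

end CL.ND
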