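import Cfsg.Agent.BLK.ND.Pi
import Cfsg.Agent.BLK.ND.Count
import Cfsg.Agent.BLK.ND.Pairs
import Cfsg.Agent.BLK.ND.Fix

set_option autoImplicit false

namespace CL.ND

open Cfsg Subgroup CL.Char CL.Blk

universe u

theorem card_le_of_fibres {X Y Z : Type*} [Finite X] [Finite Y] [Finite Z] (P : X → Z → Prop)
    (Q : Y → Z → Prop) (h : ∀ z, Nat.card {x // P x z} ≤ Nat.card {y // Q y z}) :
    Nat.card {a : X × Z // P a.1 a.2} ≤ Nat.card {a : Y × Z // Q a.1 a.2} := by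
  have hf : ∀ z, ∃ f : {x // P x z} → {y // Q y z}, Function.Injective f := fun z => by
    have := Fintype.ofFinite {x // P x z}
    have := Fintype.ofFinite {y // Q y z}
    obtain ⟨f⟩ := Function.Embedding.nonempty_of_card_le
      (by simpa [Nat.card_eq_fintype_card] using h z :
        Fintype.card {x // P x z} ≤ Fintype.card {y // Q y z})
    exact ⟨f, f.2⟩
  choose f hf using hf
  refine Nat.card_le_card_of_injective
    (fun a => ⟨((f a.1.2 ⟨a.1.1, a.2⟩).1, a.1.2), (f a.1.2 ⟨a.1.1, a.2⟩).2⟩) ?_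
  rintro ⟨⟨x, z⟩, h1⟩ ⟨⟨x', z'⟩, h2⟩ e
  have e1 := congrArg (fun a => a.1.2) e
  have e2 := congrArg (fun a => a.1.1) e
  dsimp only at e1 e2
  subst e1
  have := hf z (Subtype.ext e2)
  have e3 : x = x' := congrArg Subtype.val this
  subst e3
  rfl

theorem card_le {G : Type u} [Group G] [Finite G] {p : ℕ} [Fact p.Prime] {M : Ideal AlgInt}
    (hM : IsPModular p M) {B : Set (IrrCharacter G)} (hB : IsPBlock M B) (D : Subgroup G)
    [hn : D.Normal] (hD : IsDefectGroup p M B D) : Nat.card B ≤ Nat.card D := by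
  have := Fintype.ofFinite G
  set H := D ⊔ centralizer (D : Set G) with hH
  have := Fintype.ofFinite H
  have hDH : D ≤ H := le_sup_left
  obtain ⟨b, hind, hd⟩ := exists_root_block hM hB hD hDH le_sup_right
    (sup_centralizer_le_normalizer D)
  have hb := ((isInducedBlock_iff hM).1 hind).1
  set T := cjStab (sb M H b) with hT
  have hI : ¬ p ∣ H.relIndex T :=
    not_dvd_relIndex_of_root hM hD hind (by rw [normalizer_eq_top]; exact le_top)
      (isFixed_iff_le_cjStab.2 le_rfl)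
  have hIT : ∀ θ ∈ b, inertia H θ.1 ≤ T := fun θ hθ =>
    inertia_le_of_stab hM hb (fun x hx => mem_cjStab.2 ((cj_sb_eq_iff b x).2 hx)) hθ
  obtain ⟨θ₀, hθ₀⟩ := block_nonempty hM hb
  have hHT : H ≤ T := (le_inertia θ₀.2.isClassFunction).trans (hIT θ₀ hθ₀)
  obtain ⟨E, _, _, π, φ, hπ, hker, hE, hφ, hc⟩ := exists_pi p D T hD.isPGroup hHT hI
  obtain ⟨n, Z, hn0, hZ, hZv⟩ := exists_zeta hM hDH le_rfl hb hd
  have h1 := count H T hHT π hπ hker b (fun θ hθ t ht θ' e =>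
    (stab_iff_cjN hM hb t).2 ((cj_sb_eq_iff b t).1 (mem_cjStab.1 ht)) θ hθ θ' (congrFun e)) hIT B
    fun χ hχ => exists_under_of_covF hM hB hb (hind.covF hM) hχ
  have hfix : ∀ (θ : b) (e : E), (∀ t : T, π t = e → (t : G) ∈ inertia H θ.1.1) →
      ∀ d, (Z θ).1 (φ e d) = (Z θ).1 d := fun θ e h d => by
    obtain ⟨t, rfl⟩ := hπ e
    obtain ⟨x, hx⟩ := hc t
    refine mul_right_cancel₀ hn0 ?_
    rw [← (Z θ).2.isClassFunction d x, ← hZv, ← hZv, ← h t rfl ⟨_, hDH (x * d * x⁻¹).2⟩]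
    exact congrArg θ.1.1 (Subtype.ext (hx d))
  have h2 : Nat.card {x : IrrCharacter H × E × E // x.1 ∈ b ∧ x.2.1 * x.2.2 = x.2.2 * x.2.1 ∧
        ∀ t : T, π t = x.2.1 ∨ π t = x.2.2 → (t : G) ∈ Char.inertia H x.1.1} ≤
      Nat.card {x : IrrCharacter D × E × E // x.2.1 * x.2.2 = x.2.2 * x.2.1 ∧
        (∀ d, x.1.1 (φ x.2.1 d) = x.1.1 d) ∧ ∀ d, x.1.1 (φ x.2.2 d) = x.1.1 d} := by
    refine Nat.card_le_card_of_injective (fun a => ⟨(Z ⟨a.1.1, a.2.1⟩, a.1.2), a.2.2.1,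
      hfix _ _ fun t e => a.2.2.2 t (.inl e), hfix _ _ fun t e => a.2.2.2 t (.inr e)⟩) ?_
    intro a a' e
    have e1 := congrArg (fun a => a.1.1) e
    have e2 := congrArg (fun a => a.1.2) e
    exact Subtype.ext (Prod.ext (congrArg Subtype.val (hZ e1)) e2)
  have h3 := card_le_of_fibres
    (fun (ζ : IrrCharacter D) (z : E × E) => z.1 * z.2 = z.2 * z.1 ∧
      (∀ d, ζ.1 (φ z.1 d) = ζ.1 d) ∧ ∀ d, ζ.1 (φ z.2 d) = ζ.1 d)
    (fun (d : D) (z : E × E) => z.1 * z.2 = z.2 * z.1 ∧ φ z.1 d = d ∧ φ z.2 d = d) fun z => by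
      by_cases hz : z.1 * z.2 = z.2 * z.1
      · simp only [hz, true_and]
        exact fix p hD.isPGroup hE φ z.1 z.2 hz
      · simp [hz]
  exact Nat.le_of_mul_le_mul_right
    (h1.trans (h2.trans (h3.trans (pairs p hD.isPGroup hE φ hφ)))) Nat.card_pos

end CL.ND
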